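import Groth.Agent.H21.Devissage.SupportDim
import Mathlib.RingTheory.Finiteness.Basic
import Mathlib.AlgebraicGeometry.Morphisms.Smooth
import Mathlib.AlgebraicGeometry.Geometrically.Irreducible

/-!
# Base change of the data of a one-step dévissage
-/

set_option autoImplicit false
set_option linter.style.haveILetI false

universe u

open TensorProduct CategoryTheory AlgebraicGeometry

namespace Groth.Agent.H21.Devissage.BaseChange

variable {R R' S S' C C' : Type u} [CommRing R] [CommRing R'] [CommRing S] [CommRing S'] [CommRing C]
  [CommRing C'] [Algebra R R'] [Algebra R S] [Algebra R C] [Algebra S C] [IsScalarTower R S C]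
  [Algebra R' S'] [Algebra R S'] [Algebra S S'] [IsScalarTower R R' S'] [IsScalarTower R S S']
  [hS : Algebra.IsPushout R R' S S']
  [Algebra R' C'] [Algebra R C'] [Algebra C C'] [IsScalarTower R R' C'] [IsScalarTower R C C']
  [hC : Algebra.IsPushout R R' C C']
  [Algebra S' C'] [IsScalarTower R' S' C'] [Algebra S C'] [IsScalarTower S S' C'] [IsScalarTower S C C']

variable (R R' S S' C C')

include hS hC in
theorem isPushout : Algebra.IsPushout S S' C C' := by
  haveI : IsScalarTower R S' C' := IsScalarTower.of_algebraMap_eq (R := R) (S := S') (A := C') fun r => by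
    rw [IsScalarTower.algebraMap_apply R R' S', ← IsScalarTower.algebraMap_apply R' S' C',
      ← IsScalarTower.algebraMap_apply R R' C']
  haveI h1 : Algebra.IsPushout R S R' S' := hS.symm
  haveI h2 : Algebra.IsPushout R C R' C' := hC.symm
  exact ((Algebra.IsPushout.comp_iff R S R' S' (T := C) (T' := C')).mp h2).symm

omit hS hC

theorem surjective (h : Algebra.IsPushout S S' C C') (hsurj : Function.Surjective (algebraMap S C)) :
    Function.Surjective (algebraMap S' C') := by
  intro c
  obtain ⟨z, rfl⟩ := (Algebra.IsPushout.equiv S S' C C').surjective c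
  induction z with
  | zero => exact ⟨0, by simp⟩
  | tmul a b =>
    obtain ⟨s, rfl⟩ := hsurj b
    exact ⟨a * algebraMap S S' s, by
      rw [Algebra.IsPushout.equiv_tmul, map_mul, ← IsScalarTower.algebraMap_apply S S' C',
        IsScalarTower.algebraMap_apply S C C']⟩
  | add a b ha hb =>
    obtain ⟨x, hx⟩ := ha
    obtain ⟨y, hy⟩ := hb
    exact ⟨x + y, by rw [map_add, hx, hy, map_add]⟩

omit [Algebra R R'] [Algebra R S] [Algebra R C] [IsScalarTower R S C] [Algebra R' S'] [Algebra R S']
  [IsScalarTower R R' S'] [IsScalarTower R S S'] [Algebra R' C'] [Algebra R C'] [IsScalarTower R R' C']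
  [IsScalarTower R C C'] [IsScalarTower R' S' C']

theorem finitePresentation (h : Algebra.IsPushout S S' C C') [Algebra.FinitePresentation S C] :
    Algebra.FinitePresentation S' C' :=
  Algebra.FinitePresentation.equiv (Algebra.IsPushout.equiv S S' C C')

theorem moduleFinite (h : Algebra.IsPushout S S' C C') [Module.Finite S C] : Module.Finite S' C' :=
  Module.Finite.equiv (Algebra.IsPushout.equiv S S' C C').toLinearEquiv

/-- A base change along `C → C'` is a base change along `S → S'`. -/
theorem isBaseChange_restrict (h : Algebra.IsPushout S S' C C') {G G' : Type u} [AddCommGroup G]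
    [Module C G] [Module S G] [IsScalarTower S C G] [AddCommGroup G'] [Module C' G'] [Module S' G']
    [IsScalarTower S' C' G'] [Module C G'] [IsScalarTower C C' G'] [Module S G'] [IsScalarTower S C G']
    [IsScalarTower S S' G'] (g : G →ₗ[C] G') (hg : IsBaseChange C' g) :
    IsBaseChange S' (g.restrictScalars S) := by
  refine IsBaseChange.of_equiv ((Algebra.IsPushout.cancelBaseChange S S' C C' G).symm.trans
    (hg.equiv.restrictScalars S')) fun x => ?_
  simp only [LinearEquiv.trans_apply, LinearEquiv.restrictScalars_apply]
  rw [Algebra.IsPushout.cancelBaseChange_symm_tmul, map_one, hg.equiv_tmul, one_smul]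
  rfl

theorem spec_isPullback (R R' D D' : Type u) [CommRing R] [CommRing R'] [CommRing D] [CommRing D']
    [Algebra R R'] [Algebra R D] [Algebra R' D'] [Algebra R D'] [Algebra D D'] [IsScalarTower R R' D']
    [IsScalarTower R D D'] [h : Algebra.IsPushout R R' D D'] :
    IsPullback (Spec.map (CommRingCat.ofHom (algebraMap D D')))
      (Spec.map (CommRingCat.ofHom (algebraMap R' D')))
      (Spec.map (CommRingCat.ofHom (algebraMap R D)))
      (Spec.map (CommRingCat.ofHom (algebraMap R R'))) :=
  (isPullback_SpecMap_of_isPushout _ _ _ _ (CommRingCat.isPushout_of_isPushout R R' D D')).flip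

end Groth.Agent.H21.Devissage.BaseChange
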