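import Groth.Agent.H21.Devissage.Residue
import Mathlib.RingTheory.Spectrum.Prime.Homeomorph

/-!
# The fibre module after a base change inducing an isomorphism of residue fields
-/

set_option autoImplicit false
set_option linter.style.haveILetI false

universe u

open TensorProduct

namespace Groth.Agent.H21.Devissage.Fibre

attribute [local instance] Algebra.TensorProduct.rightAlgebra

theorem exists_fibre_point {R R' S S' : Type u} [CommRing R] [CommRing R'] [CommRing S] [CommRing S']
    [Algebra R R'] [Algebra R S] [Algebra R' S'] [Algebra R S'] [Algebra S S']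
    [IsScalarTower R R' S'] [IsScalarTower R S S'] [Algebra.IsPushout R R' S S']
    [Algebra.FiniteType R S]
    (p : Ideal R) [p.IsPrime] (p' : Ideal R') [p'.IsPrime] [hp : p'.LiesOver p]
    (hκ : Function.Bijective (Ideal.ResidueField.mapₐ p p' (Algebra.ofId R R') hp.over))
    (q : Ideal S) [q.IsPrime] [q.LiesOver p] (q' : Ideal S') [q'.IsPrime] [q'.LiesOver q] [q'.LiesOver p']
    (N : Type u) [AddCommGroup N] [Module S N] [Module R N] [IsScalarTower R S N] [Module.Finite S N]
    (N' : Type u) [AddCommGroup N'] [Module S' N'] [Module R' N'] [IsScalarTower R' S' N']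
    [Module S N'] [IsScalarTower S S' N'] (f : N →ₗ[S] N') (hf : IsBaseChange S' f) (n : ℕ)
    (h : ∃ (ξ : PrimeSpectrum (p.Fiber S)) (hξ : ξ ∈ Module.support (p.Fiber S) (FlatCA.fiberMod p S N)),
      ξ.asIdeal = FlatCA.fiberIdeal p q ∧
      FlatMor.localDim (Module.support (p.Fiber S) (FlatCA.fiberMod p S N)) ⟨ξ, hξ⟩ = n) :
    ∃ (ξ' : PrimeSpectrum (p'.Fiber S')) (hξ' : ξ' ∈ Module.support (p'.Fiber S') (FlatCA.fiberMod p' S' N')),
      ξ'.asIdeal = FlatCA.fiberIdeal p' q' ∧
      FlatMor.localDim (Module.support (p'.Fiber S') (FlatCA.fiberMod p' S' N')) ⟨ξ', hξ'⟩ = n := by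
  obtain ⟨ξ, hξ, hξq, hξd⟩ := h
  let κ := p.ResidueField
  let κ' := p'.ResidueField
  let φ : κ →ₐ[R] κ' := Ideal.ResidueField.mapₐ p p' (Algebra.ofId R R') hp.over
  letI : Algebra κ κ' := φ.toRingHom.toAlgebra
  haveI : IsScalarTower R κ κ' := .of_algebraMap_eq fun r => (φ.commutes r).symm
  let F := p.Fiber S
  let F' := p'.Fiber S'
  haveI : IsScalarTower R S' F' := IsScalarTower.of_algebraMap_eq (R := R) (S := S') (A := F') fun r => by
    rw [IsScalarTower.algebraMap_apply R R' S', ← IsScalarTower.algebraMap_apply R' S' F',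
      ← IsScalarTower.algebraMap_apply R R' F']
  letI : Algebra S F' := ((algebraMap S' F').comp (algebraMap S S')).toAlgebra
  haveI : IsScalarTower S S' F' := .of_algebraMap_eq fun _ => rfl
  haveI : IsScalarTower R S F' := IsScalarTower.of_algebraMap_eq (R := R) (S := S) (A := F') fun r => by
    rw [IsScalarTower.algebraMap_apply R S' F', IsScalarTower.algebraMap_apply R S S']
    rfl
  haveI hp1 : Algebra.IsPushout R κ' S F' :=
    (Algebra.IsPushout.comp_iff R R' S S' (T := κ') (T' := F')).mpr inferInstance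
  haveI : IsScalarTower R κ F' := IsScalarTower.of_algebraMap_eq (R := R) (S := κ) (A := F') fun r => by
    rw [IsScalarTower.algebraMap_apply κ κ' F', ← IsScalarTower.algebraMap_apply R κ κ', ← IsScalarTower.algebraMap_apply R κ' F']
  let ψ : F →ₐ[κ] F' := Algebra.TensorProduct.lift (Algebra.ofId κ F') (IsScalarTower.toAlgHom R S F')
    fun _ _ => Commute.all _ _
  letI : Algebra F F' := ψ.toRingHom.toAlgebra
  haveI : IsScalarTower κ F F' := .of_algebraMap_eq fun x => (ψ.commutes x).symm
  haveI : IsScalarTower S F F' := IsScalarTower.of_algebraMap_eq (R := S) (S := F) (A := F') fun x => by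
    show _ = ψ ((1 : κ) ⊗ₜ[R] x)
    rw [Algebra.TensorProduct.lift_tmul, map_one, one_mul]; rfl
  haveI : IsScalarTower R F F' := IsScalarTower.of_algebraMap_eq (R := R) (S := F) (A := F') fun r => by
    rw [IsScalarTower.algebraMap_apply R S F, ← IsScalarTower.algebraMap_apply S F F',
      ← IsScalarTower.algebraMap_apply R S F']
  haveI : Algebra.IsPushout κ κ' F F' :=
    (Algebra.IsPushout.comp_iff R κ S F (T := κ') (T' := F')).mp hp1
  have hψ : Function.Bijective (algebraMap F F') := by
    let e : κ ≃ₐ[κ] κ' := AlgEquiv.ofBijective (Algebra.ofId κ κ') hκ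
    let E := ((Algebra.TensorProduct.lid κ F).symm.trans
      (Algebra.TensorProduct.congr e AlgEquiv.refl)).toRingEquiv.trans
        (Algebra.IsPushout.equiv κ κ' F F').toRingEquiv
    have : algebraMap F F' = E.toRingHom := by
      refine RingHom.ext fun x => ?_
      show _ = Algebra.IsPushout.equiv κ κ' F F' (Algebra.TensorProduct.congr e AlgEquiv.refl
        ((Algebra.TensorProduct.lid κ F).symm x))
      rw [Algebra.TensorProduct.lid_symm_apply, Algebra.TensorProduct.congr_apply,
        Algebra.TensorProduct.map_tmul, Algebra.IsPushout.equiv_tmul]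
      simp
    rw [this]
    exact E.bijective
  let σ : F ≃+* F' := RingEquiv.ofBijective _ hψ
  let h0 : PrimeSpectrum F' ≃ₜ PrimeSpectrum F := (PrimeSpectrum.homeomorphOfRingEquiv σ).symm
  have hh0 : ∀ z, h0 z = PrimeSpectrum.comap (algebraMap F F') z := fun z => rfl
  have hsupp : Module.support F' (FlatCA.fiberMod p' S' N') =
      PrimeSpectrum.comap (algebraMap F F') ⁻¹' Module.support F (FlatCA.fiberMod p S N) := by
    haveI : Module.Finite F (FlatCA.fiberMod p S N) := inferInstanceAs (Module.Finite F (F ⊗[S] N))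
    rw [← H22.SupportBC.support_baseChange (R' := F') (FlatCA.fiberMod p S N)]
    exact LinearEquiv.support_eq
      ((AlgebraTensorModule.congr (LinearEquiv.refl F' F') hf.equiv.symm).trans
        ((AlgebraTensorModule.cancelBaseChange S S' F' F' N).trans
          (AlgebraTensorModule.cancelBaseChange S F F' F' N).symm))
  let hs : Module.support F' (FlatCA.fiberMod p' S' N') ≃ₜ Module.support F (FlatCA.fiberMod p S N) :=
    h0.subtype fun z => by rw [hsupp, hh0]; rfl
  let ξ'' := hs.symm ⟨ξ, hξ⟩
  refine ⟨ξ''.1, ξ''.2, ?_, ?_⟩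
  · have hcomap : ξ''.1.asIdeal.comap (algebraMap F F') = ξ.asIdeal := by
      have h1 : hs ξ'' = ⟨ξ, hξ⟩ := hs.apply_symm_apply _
      exact congrArg PrimeSpectrum.asIdeal (congrArg Subtype.val h1)
    have hmapeq : ξ''.1.asIdeal = q.map (algebraMap S F') := by
      rw [← Ideal.map_comap_of_surjective _ hψ.2 ξ''.1.asIdeal, hcomap, hξq, FlatCA.fiberIdeal,
        IsScalarTower.algebraMap_eq S F F', ← Ideal.map_map]
      rfl
    -- the prime of the fibre over `q`
    let Q := ξ''.1.asIdeal.comap (algebraMap S' F')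
    haveI : Q.LiesOver p' := ⟨by
      have hb : ξ''.1.asIdeal.LiesOver p' := inferInstance
      rw [Ideal.under_def, Ideal.comap_comap, ← IsScalarTower.algebraMap_eq R' S' F']
      exact hb.over⟩
    haveI : Q.LiesOver q := ⟨by
      rw [Ideal.under_def, Ideal.comap_comap, ← IsScalarTower.algebraMap_eq S S' F', hmapeq]
      refine le_antisymm Ideal.le_comap_map ?_
      obtain ⟨z, hz⟩ : ∃ z : PrimeSpectrum F, z.asIdeal.comap (algebraMap S F) = q := by
        let z := PrimeSpectrum.preimageEquivFiber R S ⟨p, inferInstance⟩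
          ⟨⟨q, inferInstance⟩, by
            ext1; exact (Ideal.LiesOver.over (p := p) (P := q)).symm⟩
        refine ⟨z, ?_⟩
        have := congrArg Subtype.val ((PrimeSpectrum.preimageEquivFiber R S ⟨p, inferInstance⟩).symm_apply_apply
          ⟨⟨q, inferInstance⟩, by ext1; exact (Ideal.LiesOver.over (p := p) (P := q)).symm⟩)
        exact congrArg PrimeSpectrum.asIdeal this
      have hzle : q.map (algebraMap S F') ≤ (h0.symm z).asIdeal := by
        rw [Ideal.map_le_iff_le_comap, IsScalarTower.algebraMap_eq S F F', ← Ideal.comap_comap]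
        have h1 : (h0.symm z).asIdeal.comap (algebraMap F F') = z.asIdeal := by
          have := congrArg PrimeSpectrum.asIdeal (h0.apply_symm_apply z)
          rwa [hh0] at this
        rw [h1, hz]
      refine (Ideal.comap_mono hzle).trans ?_
      rw [IsScalarTower.algebraMap_eq S F F', ← Ideal.comap_comap]
      have h1 : (h0.symm z).asIdeal.comap (algebraMap F F') = z.asIdeal := by
        have := congrArg PrimeSpectrum.asIdeal (h0.apply_symm_apply z)
        rwa [hh0] at this
      rw [h1, hz]⟩
    have hQ : Q = q' := Residue.eq_of_liesOver p p' hκ q Q q'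
    refine le_antisymm ?_ ?_
    · rw [hmapeq, IsScalarTower.algebraMap_eq S S' F', ← Ideal.map_map]
      refine Ideal.map_mono ?_
      rw [Ideal.map_le_iff_le_comap]
      exact (Ideal.LiesOver.over (p := q) (P := q')).le
    · rw [FlatCA.fiberIdeal, Ideal.map_le_iff_le_comap]
      exact hQ.ge
  · rw [← hξd, ← hs.apply_symm_apply ⟨ξ, hξ⟩]
    exact (Lib.FibreDim.Basic.localDim_eq_of_homeomorph hs ξ'').symm

end Groth.Agent.H21.Devissage.Fibre
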