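import Groth.Agent.H21.Devissage.Residue

/-!
# Points of a base change inducing an isomorphism of residue fields
-/

set_option autoImplicit false
set_option linter.style.haveILetI false

universe u

open TensorProduct

namespace Groth.Agent.H21.Devissage.Point

theorem exists_prime_over {R R' T T' : Type u} [CommRing R] [CommRing R'] [Algebra R R']
    (p : Ideal R) [p.IsPrime] (p' : Ideal R') [p'.IsPrime] [hp : p'.LiesOver p]
    (hκ : Function.Bijective (Ideal.ResidueField.mapₐ p p' (Algebra.ofId R R') hp.over))
    [CommRing T] [CommRing T'] [Algebra R T] [Algebra R' T'] [Algebra R T']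
    [Algebra T T'] [IsScalarTower R R' T'] [IsScalarTower R T T'] [Algebra.IsPushout R R' T T']
    (y : Ideal T) [y.IsPrime] [hy : y.LiesOver p] :
    ∃ Q : Ideal T', Q.IsPrime ∧ Q.LiesOver y ∧ Q.LiesOver p' := by
  let e := RingEquiv.ofBijective
    (Ideal.ResidueField.mapₐ p p' (Algebra.ofId R R') hp.over).toRingHom hκ
  let fy : p.ResidueField →+* y.ResidueField := Ideal.ResidueField.map p y (algebraMap R T) hy.over
  let f0 : R' →+* y.ResidueField := (fy.comp e.symm.toRingHom).comp (algebraMap R' p'.ResidueField)
  have hf0 : ∀ r, f0 (algebraMap R R' r) = algebraMap R y.ResidueField r := by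
    intro r
    have he : e.symm (algebraMap R' p'.ResidueField (algebraMap R R' r)) = algebraMap R p.ResidueField r := by
      rw [RingEquiv.symm_apply_eq, ← IsScalarTower.algebraMap_apply R R' p'.ResidueField]
      exact ((Ideal.ResidueField.mapₐ p p' (Algebra.ofId R R') hp.over).commutes r).symm
    show fy (e.symm (algebraMap R' p'.ResidueField (algebraMap R R' r))) = _
    rw [he, IsScalarTower.algebraMap_apply R T y.ResidueField]
    exact Ideal.ResidueField.map_algebraMap ..
  let f : R' →ₐ[R] y.ResidueField := { f0 with commutes' := hf0 }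
  let D := Algebra.pushoutDesc T' f (IsScalarTower.toAlgHom R T y.ResidueField) fun _ _ => mul_comm _ _
  refine ⟨RingHom.ker D.toRingHom, RingHom.ker_isPrime _, ⟨?_⟩, ⟨?_⟩⟩
  · rw [Ideal.under_def, RingHom.comap_ker]
    conv_lhs => rw [← Ideal.ker_algebraMap_residueField y]
    congr 1
    ext t
    exact (Algebra.pushoutDesc_right T' f (IsScalarTower.toAlgHom R T y.ResidueField) (fun _ _ => mul_comm _ _) t).symm
  · rw [Ideal.under_def, RingHom.comap_ker]
    conv_lhs => rw [← Ideal.ker_algebraMap_residueField p',
      ← RingHom.ker_comp_of_injective _ ((fy.comp e.symm.toRingHom).injective)]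
    congr 1
    ext r
    exact (Algebra.pushoutDesc_left T' f (IsScalarTower.toAlgHom R T y.ResidueField) (fun _ _ => mul_comm _ _) r).symm

end Groth.Agent.H21.Devissage.Point
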