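import Groth.Agent.H21.Devissage.BaseChange
import Groth.Agent.Lib.FibreDim.Basic
import Mathlib.RingTheory.AlgebraicIndependent.AlgebraicClosure

/-!
# Base change along a map inducing an isomorphism of residue fields
-/

set_option autoImplicit false
set_option linter.style.haveILetI false

universe u

open TensorProduct

namespace Groth.Agent.H21.Devissage.Residue

variable {R R' : Type u} [CommRing R] [CommRing R'] [Algebra R R']
  (p : Ideal R) [p.IsPrime] (p' : Ideal R') [p'.IsPrime] [hp : p'.LiesOver p]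
  (hκ : Function.Bijective (Ideal.ResidueField.mapₐ p p' (Algebra.ofId R R') hp.over))
variable {T T' : Type u} [CommRing T] [CommRing T'] [Algebra R T] [Algebra R' T'] [Algebra R T']
  [Algebra T T'] [IsScalarTower R R' T'] [IsScalarTower R T T'] [Algebra.IsPushout R R' T T']

include hκ in
theorem residue_surjective (y : Ideal T) [y.IsPrime] [y.LiesOver p] (Q : Ideal T') [Q.IsPrime]
    [hQy : Q.LiesOver y] [hQp : Q.LiesOver p'] :
    Function.Surjective (Ideal.ResidueField.map y Q (algebraMap T T') hQy.over) := by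
  let ι := Ideal.ResidueField.map y Q (algebraMap T T') hQy.over
  have hT : ∀ t : T, ι (algebraMap T y.ResidueField t) =
      algebraMap T' Q.ResidueField (algebraMap T T' t) := fun t => Ideal.ResidueField.map_algebraMap ..
  have hR' : ∀ r : R', algebraMap T' Q.ResidueField (algebraMap R' T' r) ∈ ι.range := by
    intro r
    obtain ⟨a, ha⟩ := hκ.2 (algebraMap R' p'.ResidueField r)
    let μ := Ideal.ResidueField.map p' Q (algebraMap R' T') hQp.over
    let μy := Ideal.ResidueField.map p y (algebraMap R T) (Ideal.LiesOver.over)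
    have hcomp : μ.comp (Ideal.ResidueField.mapₐ p p' (Algebra.ofId R R') hp.over).toRingHom =
        ι.comp μy := by
      apply Ideal.ResidueField.ringHom_ext
      ext x
      show μ (Ideal.ResidueField.mapₐ p p' (Algebra.ofId R R') hp.over (algebraMap R p.ResidueField x)) = _
      rw [AlgHom.commutes, RingHom.comp_apply, RingHom.comp_apply]
      simp only [μy, Ideal.ResidueField.map_algebraMap, hT, IsScalarTower.algebraMap_apply R R' p'.ResidueField, μ]
      rw [← IsScalarTower.algebraMap_apply R R' T', IsScalarTower.algebraMap_apply R T T']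
    refine ⟨μy a, ?_⟩
    rw [← RingHom.comp_apply, ← hcomp, RingHom.comp_apply]
    show μ (Ideal.ResidueField.mapₐ p p' (Algebra.ofId R R') hp.over a) = _
    rw [ha]
    exact Ideal.ResidueField.map_algebraMap ..
  have hT' : ∀ t : T', algebraMap T' Q.ResidueField t ∈ ι.range := by
    intro t
    obtain ⟨z, rfl⟩ := (Algebra.IsPushout.equiv R R' T T').surjective t
    induction z with
    | zero => simp
    | tmul a b =>
      rw [Algebra.IsPushout.equiv_tmul, map_mul]
      exact Subring.mul_mem _ (hR' a) ⟨_, hT b⟩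
    | add a b ha hb => rw [map_add, map_add]; exact Subring.add_mem _ ha hb
  intro x
  obtain ⟨a, b, -, rfl⟩ := IsFractionRing.div_surjective (A := T' ⧸ Q) x
  obtain ⟨a, rfl⟩ := Ideal.Quotient.mk_surjective a
  obtain ⟨b, rfl⟩ := Ideal.Quotient.mk_surjective b
  obtain ⟨x₁, hx₁⟩ := hT' a
  obtain ⟨x₂, hx₂⟩ := hT' b
  refine ⟨x₁ / x₂, ?_⟩
  show ι _ = _
  rw [map_div₀, hx₁, hx₂]
  rfl

include hκ in
theorem eq_of_liesOver (y : Ideal T) [y.IsPrime] [y.LiesOver p] (Q₁ Q₂ : Ideal T') [Q₁.IsPrime]
    [Q₂.IsPrime] [h₁ : Q₁.LiesOver y] [Q₁.LiesOver p'] [h₂ : Q₂.LiesOver y] [Q₂.LiesOver p'] :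
    Q₁ = Q₂ := by
  let e₁ := RingEquiv.ofBijective (Ideal.ResidueField.map y Q₁ (algebraMap T T') h₁.over)
    ⟨RingHom.injective _, residue_surjective p p' hκ y Q₁⟩
  let e₂ := RingEquiv.ofBijective (Ideal.ResidueField.map y Q₂ (algebraMap T T') h₂.over)
    ⟨RingHom.injective _, residue_surjective p p' hκ y Q₂⟩
  let f₁ : T' →+* y.ResidueField := e₁.symm.toRingHom.comp (algebraMap T' Q₁.ResidueField)
  let f₂ : T' →+* y.ResidueField := e₂.symm.toRingHom.comp (algebraMap T' Q₂.ResidueField)
  have hT : ∀ t, f₁ (algebraMap T T' t) = f₂ (algebraMap T T' t) := by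
    intro t
    have h1 : f₁ (algebraMap T T' t) = algebraMap T y.ResidueField t :=
      e₁.injective (by simp [f₁]; exact (Ideal.ResidueField.map_algebraMap ..).symm)
    have h2 : f₂ (algebraMap T T' t) = algebraMap T y.ResidueField t :=
      e₂.injective (by simp [f₂]; exact (Ideal.ResidueField.map_algebraMap ..).symm)
    rw [h1, h2]
  have hR : ∀ r, f₁ (algebraMap R' T' r) = f₂ (algebraMap R' T' r) := by
    have hker : ∀ (f : T' →+* y.ResidueField) (Q : Ideal T') [Q.LiesOver p'], RingHom.ker f = Q →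
        p' = RingHom.ker (f.comp (algebraMap R' T')) := by
      intro f Q hQ hf
      rw [← RingHom.comap_ker, hf]
      exact hQ.over
    have hk₁ : RingHom.ker f₁ = Q₁ := by
      rw [RingHom.ker_equiv_comp, Ideal.ker_algebraMap_residueField]
    have hk₂ : RingHom.ker f₂ = Q₂ := by
      rw [RingHom.ker_equiv_comp, Ideal.ker_algebraMap_residueField]
    let μ₁ := Ideal.ResidueField.lift p' (f₁.comp (algebraMap R' T')) (le_of_eq (hker f₁ Q₁ hk₁))
      (fun r hr => isUnit_iff_ne_zero.mpr fun h => hr (hker f₁ Q₁ hk₁ ▸ h : r ∈ p'))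
    let μ₂ := Ideal.ResidueField.lift p' (f₂.comp (algebraMap R' T')) (le_of_eq (hker f₂ Q₂ hk₂))
      (fun r hr => isUnit_iff_ne_zero.mpr fun h => hr (hker f₂ Q₂ hk₂ ▸ h : r ∈ p'))
    have hμ : μ₁.comp (Ideal.ResidueField.mapₐ p p' (Algebra.ofId R R') hp.over).toRingHom =
        μ₂.comp (Ideal.ResidueField.mapₐ p p' (Algebra.ofId R R') hp.over).toRingHom := by
      apply Ideal.ResidueField.ringHom_ext
      ext x
      show μ₁ (Ideal.ResidueField.mapₐ p p' (Algebra.ofId R R') hp.over (algebraMap R p.ResidueField x)) =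
        μ₂ (Ideal.ResidueField.mapₐ p p' (Algebra.ofId R R') hp.over (algebraMap R p.ResidueField x))
      simp only [AlgHom.commutes, IsScalarTower.algebraMap_apply R R' p'.ResidueField, μ₁, μ₂,
        Ideal.ResidueField.lift_algebraMap, RingHom.comp_apply, ← IsScalarTower.algebraMap_apply R R' T']
      rw [IsScalarTower.algebraMap_apply R T T']
      exact hT _
    intro r
    obtain ⟨a, ha⟩ := hκ.2 (algebraMap R' p'.ResidueField r)
    have := congr($hμ a)
    simp only [RingHom.comp_apply, AlgHom.toRingHom_eq_coe, RingHom.coe_coe, ha, μ₁, μ₂,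
      Ideal.ResidueField.lift_algebraMap] at this
    exact this
  have hf : f₁ = f₂ := by
    ext t
    obtain ⟨z, rfl⟩ := (Algebra.IsPushout.equiv R R' T T').surjective t
    induction z with
    | zero => simp
    | tmul a b => rw [Algebra.IsPushout.equiv_tmul, map_mul, map_mul, hR, hT]
    | add a b ha hb => rw [map_add, map_add, map_add, ha, hb]
  have := congrArg RingHom.ker hf
  rwa [RingHom.ker_equiv_comp, RingHom.ker_equiv_comp, Ideal.ker_algebraMap_residueField,
    Ideal.ker_algebraMap_residueField] at this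

include hκ in
theorem purelyTranscendental (y : Ideal T) [y.IsPrime] [y.LiesOver p] (Q : Ideal T') [Q.IsPrime]
    [hQy : Q.LiesOver y] [hQp : Q.LiesOver p'] (h : FlatCA.PurelyTranscendental p y) :
    FlatCA.PurelyTranscendental p' Q := by
  obtain ⟨ι, x, hx, hadj⟩ := h
  let κ := p.ResidueField
  let κ' := p'.ResidueField
  let L := y.ResidueField
  let L' := Q.ResidueField
  letI aκL : Algebra κ L := (Ideal.ResidueField.mapₐ p y (Algebra.ofId R T) (Ideal.LiesOver.over)).toRingHom.toAlgebra
  letI aκκ : Algebra κ κ' := (Ideal.ResidueField.mapₐ p p' (Algebra.ofId R R') hp.over).toRingHom.toAlgebra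
  letI aκL' : Algebra κ' L' := (Ideal.ResidueField.mapₐ p' Q (Algebra.ofId R' T') hQp.over).toRingHom.toAlgebra
  letI : Algebra κ L' := ((algebraMap κ' L').comp (algebraMap κ κ')).toAlgebra
  haveI : IsScalarTower κ κ' L' := .of_algebraMap_eq fun _ => rfl
  let ιm := Ideal.ResidueField.map y Q (algebraMap T T') hQy.over
  have hcomm : ιm.comp (algebraMap κ L) = algebraMap κ L' := by
    apply Ideal.ResidueField.ringHom_ext
    ext r
    show ιm (Ideal.ResidueField.mapₐ p y (Algebra.ofId R T) _ (algebraMap R κ r)) =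
      Ideal.ResidueField.mapₐ p' Q (Algebra.ofId R' T') hQp.over
        (Ideal.ResidueField.mapₐ p p' (Algebra.ofId R R') hp.over (algebraMap R κ r))
    rw [AlgHom.commutes, AlgHom.commutes, IsScalarTower.algebraMap_apply R T y.ResidueField,
      IsScalarTower.algebraMap_apply R R' p'.ResidueField, AlgHom.commutes,
      IsScalarTower.algebraMap_apply R' T' Q.ResidueField]
    simp only [ιm, Ideal.ResidueField.map_algebraMap, ← IsScalarTower.algebraMap_apply R T T',
      ← IsScalarTower.algebraMap_apply R R' T']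
  let e : L ≃ₐ[κ] L' := AlgEquiv.ofBijective
    { ιm with commutes' := fun r => congr($hcomm r) }
    ⟨RingHom.injective _, residue_surjective p p' hκ y Q⟩
  haveI : Algebra.IsIntegral κ κ' := ⟨fun a => by
    obtain ⟨b, hb⟩ := hκ.2 a
    rw [← hb]
    exact isIntegral_algebraMap (R := κ) (A := κ') (x := b)⟩
  refine ⟨ι, e ∘ x, (Algebra.IsIntegral.isTranscendenceBasis_iff κ κ').mp
    (e.isTranscendenceBasis hx), ?_⟩
  refine eq_top_iff.mpr fun z _ => ?_
  obtain ⟨w, rfl⟩ := e.surjective z
  have hw : w ∈ IntermediateField.adjoin κ (Set.range x) := hadj ▸ IntermediateField.mem_top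
  have hle : IntermediateField.adjoin κ (Set.range x) ≤
      ((IntermediateField.adjoin κ' (Set.range (e ∘ x))).restrictScalars κ).comap e.toAlgHom := by
    rw [IntermediateField.adjoin_le_iff]
    rintro _ ⟨i, rfl⟩
    exact IntermediateField.subset_adjoin κ' _ ⟨i, rfl⟩
  exact hle hw

end Groth.Agent.H21.Devissage.Residue
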