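import Groth.Prelude.Def_FlatCA
import Groth.Agent.Lib.Dim.Integral
import Groth.Agent.H22.SupportBC
import Mathlib.RingTheory.NoetherNormalization
import Mathlib.RingTheory.KrullDimension.Polynomial
import Mathlib.RingTheory.KrullDimension.Module
import Mathlib.RingTheory.KrullDimension.Field
import Mathlib.RingTheory.TensorProduct.Quotient

/-!
# The dimension of the support of a module does not change under extensions of the ground field
-/

set_option autoImplicit false
set_option linter.style.haveILetI false

universe u

open TensorProduct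

namespace Groth.Agent.H21.Devissage.SupportDim

section field

variable (k K : Type u) [Field k] [Field K] [Algebra k K]

theorem ringKrullDim_tensor (B : Type u) [CommRing B] [Algebra k B] [Algebra.FiniteType k B] :
    ringKrullDim (K ⊗[k] B) = ringKrullDim B := by
  rcases subsingleton_or_nontrivial B with hB | hB
  · haveI : Subsingleton (K ⊗[k] B) := inferInstance
    rw [ringKrullDim_eq_bot_of_subsingleton, ringKrullDim_eq_bot_of_subsingleton]
  obtain ⟨s, g, hg, hgf⟩ := exists_finite_inj_algHom_of_fg k B
  letI : Algebra (MvPolynomial (Fin s) k) B := g.toRingHom.toAlgebra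
  haveI : Module.Finite (MvPolynomial (Fin s) k) B := hgf
  haveI : FaithfulSMul (MvPolynomial (Fin s) k) B := (faithfulSMul_iff_algebraMap_injective _ _).mpr hg
  have h1 : ringKrullDim B = ringKrullDim (MvPolynomial (Fin s) k) :=
    Lib.Dim.Integral.ringKrullDim_eq_of_isIntegral
  let G := Algebra.TensorProduct.map (AlgHom.id K K) g
  have hGi : Function.Injective G :=
    Module.Flat.lTensor_preserves_injective_linearMap (M := K) g.toLinearMap hg
  letI : Algebra (K ⊗[k] MvPolynomial (Fin s) k) (K ⊗[k] B) := G.toRingHom.toAlgebra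
  haveI : FaithfulSMul (K ⊗[k] MvPolynomial (Fin s) k) (K ⊗[k] B) :=
    (faithfulSMul_iff_algebraMap_injective _ _).mpr hGi
  haveI : Module.Finite (K ⊗[k] MvPolynomial (Fin s) k) (K ⊗[k] B) := by
    obtain ⟨gen, hgen⟩ := (Module.Finite.fg_top : (⊤ : Submodule (MvPolynomial (Fin s) k) B).FG)
    classical
    refine ⟨⟨gen.image fun b => (1 : K) ⊗ₜ[k] b, eq_top_iff.mpr fun z hz => ?_⟩⟩
    clear hz
    induction z with
    | zero => exact zero_mem _
    | add a b ha hb => exact add_mem ha hb
    | tmul c b =>
      have hb : b ∈ Submodule.span (MvPolynomial (Fin s) k) (gen : Set B) := hgen ▸ Submodule.mem_top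
      induction hb using Submodule.span_induction generalizing c with
      | mem x hx =>
        have : c ⊗ₜ[k] x = (c ⊗ₜ[k] (1 : MvPolynomial (Fin s) k)) • ((1 : K) ⊗ₜ[k] x) := by
          rw [Algebra.smul_def, RingHom.algebraMap_toAlgebra]
          simp [G]
        rw [this]
        exact Submodule.smul_mem _ _ (Submodule.subset_span (by simp [hx]; exact ⟨x, hx, rfl⟩))
      | zero => simp
      | add x y _ _ hx hy => rw [tmul_add]; exact add_mem (hx c) (hy c)
      | smul p x _ hx =>
        have : c ⊗ₜ[k] (p • x) = ((1 : K) ⊗ₜ[k] p) • (c ⊗ₜ[k] x) := by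
          rw [Algebra.smul_def, Algebra.smul_def, RingHom.algebraMap_toAlgebra, RingHom.algebraMap_toAlgebra]
          simp [G]
        rw [this]
        exact Submodule.smul_mem _ _ (hx c)
  have h2 : ringKrullDim (K ⊗[k] B) = ringKrullDim (K ⊗[k] MvPolynomial (Fin s) k) :=
    Lib.Dim.Integral.ringKrullDim_eq_of_isIntegral
  rw [h2, h1, ringKrullDim_eq_of_ringEquiv (MvPolynomial.algebraTensorAlgEquiv k K).toRingEquiv,
    MvPolynomial.ringKrullDim_of_isNoetherianRing, MvPolynomial.ringKrullDim_of_isNoetherianRing,
    ringKrullDim_eq_zero_of_field, ringKrullDim_eq_zero_of_field]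

theorem supportDim_baseChange (F F' : Type u) [CommRing F] [CommRing F'] [Algebra k F]
    [Algebra.FiniteType k F] [Algebra K F'] [Algebra F F'] [Algebra k F'] [IsScalarTower k K F']
    [IsScalarTower k F F'] [Algebra.IsPushout k K F F'] (M : Type u) [AddCommGroup M] [Module F M]
    [Module.Finite F M] :
    Module.supportDim F' (F' ⊗[F] M) = Module.supportDim F M := by
  set I := Module.annihilator F M with hI
  have hsupp : Module.support F' (F' ⊗[F] M) =
      PrimeSpectrum.zeroLocus (I.map (algebraMap F F') : Set F') := by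
    rw [H22.SupportBC.support_baseChange, Module.support_eq_zeroLocus,
      PrimeSpectrum.preimage_comap_zeroLocus, ← PrimeSpectrum.zeroLocus_span, Ideal.map]
  rw [Module.supportDim_eq_ringKrullDim_quotient_annihilator (R := F) (M := M), Module.supportDim,
    hsupp, ← ringKrullDim_quotient, ← hI,
    ringKrullDim_eq_of_ringEquiv (Algebra.TensorProduct.quotIdealMapEquivTensorQuot F' I).toRingEquiv,
    ringKrullDim_eq_of_ringEquiv (Algebra.IsPushout.cancelBaseChangeAlg k K F F' (F ⧸ I)).toRingEquiv]
  exact ringKrullDim_tensor k K (F ⧸ I)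

end field

attribute [local instance] Algebra.TensorProduct.rightAlgebra

theorem supportDim_fiberMod {R R' S S' : Type u} [CommRing R] [CommRing R'] [CommRing S] [CommRing S']
    [Algebra R R'] [Algebra R S] [Algebra R' S'] [Algebra R S'] [Algebra S S']
    [IsScalarTower R R' S'] [IsScalarTower R S S'] [Algebra.IsPushout R R' S S']
    [Algebra.FiniteType R S]
    (p : Ideal R) [p.IsPrime] (p' : Ideal R') [p'.IsPrime] [hp : p'.LiesOver p]
    (N : Type u) [AddCommGroup N] [Module S N] [Module R N] [IsScalarTower R S N] [Module.Finite S N]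
    (N' : Type u) [AddCommGroup N'] [Module S' N'] [Module R' N'] [IsScalarTower R' S' N']
    [Module S N'] [IsScalarTower S S' N'] (f : N →ₗ[S] N') (hf : IsBaseChange S' f) :
    Module.supportDim (p'.Fiber S') (FlatCA.fiberMod p' S' N') =
      Module.supportDim (p.Fiber S) (FlatCA.fiberMod p S N) := by
  let κ := p.ResidueField
  let κ' := p'.ResidueField
  let φ : κ →ₐ[R] κ' := Ideal.ResidueField.mapₐ p p' (Algebra.ofId R R') hp.over
  letI : Algebra κ κ' := φ.toRingHom.toAlgebra
  haveI : IsScalarTower R κ κ' := .of_algebraMap_eq fun r => (φ.commutes r).symm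
  let F := p.Fiber S
  let F' := p'.Fiber S'
  haveI : IsScalarTower R S' F' := IsScalarTower.of_algebraMap_eq (R := R) (S := S') (A := F') fun r => by
    rw [IsScalarTower.algebraMap_apply R R' S', ← IsScalarTower.algebraMap_apply R' S' F',
      ← IsScalarTower.algebraMap_apply R R' F']
  letI : Algebra S F' := ((algebraMap S' F').comp (algebraMap S S')).toAlgebra
  haveI : IsScalarTower S S' F' := .of_algebraMap_eq fun _ => rfl
  haveI : IsScalarTower R S F' := IsScalarTower.of_algebraMap_eq (R := R) (S := S) (A := F') fun r => by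
    rw [IsScalarTower.algebraMap_apply R S' F', IsScalarTower.algebraMap_apply R S S']
    rfl
  haveI hp1 : Algebra.IsPushout R κ' S F' :=
    (Algebra.IsPushout.comp_iff R R' S S' (T := κ') (T' := F')).mpr inferInstance
  haveI : IsScalarTower R κ F' := IsScalarTower.of_algebraMap_eq (R := R) (S := κ) (A := F') fun r => by
    rw [IsScalarTower.algebraMap_apply κ κ' F', ← IsScalarTower.algebraMap_apply R κ κ', ← IsScalarTower.algebraMap_apply R κ' F']
  let ψ : F →ₐ[κ] F' := Algebra.TensorProduct.lift (Algebra.ofId κ F') (IsScalarTower.toAlgHom R S F')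
    fun _ _ => Commute.all _ _
  letI : Algebra F F' := ψ.toRingHom.toAlgebra
  haveI : IsScalarTower κ F F' := .of_algebraMap_eq fun x => (ψ.commutes x).symm
  haveI : IsScalarTower S F F' := IsScalarTower.of_algebraMap_eq (R := S) (S := F) (A := F') fun x => by
    show _ = ψ ((1 : κ) ⊗ₜ[R] x)
    rw [Algebra.TensorProduct.lift_tmul, map_one, one_mul]; rfl
  haveI : IsScalarTower R F F' := IsScalarTower.of_algebraMap_eq (R := R) (S := F) (A := F') fun r => by
    rw [IsScalarTower.algebraMap_apply R S F, ← IsScalarTower.algebraMap_apply S F F',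
      ← IsScalarTower.algebraMap_apply R S F']
  haveI : Algebra.IsPushout κ κ' F F' :=
    (Algebra.IsPushout.comp_iff R κ S F (T := κ') (T' := F')).mp hp1
  have h1 := supportDim_baseChange κ κ' F F' (F ⊗[S] N)
  refine Eq.trans ?_ h1
  exact Module.supportDim_eq_of_equiv
    ((AlgebraTensorModule.congr (LinearEquiv.refl F' F') hf.equiv.symm).trans
      ((AlgebraTensorModule.cancelBaseChange S S' F' F' N).trans
        (AlgebraTensorModule.cancelBaseChange S F F' F' N).symm))

end Groth.Agent.H21.Devissage.SupportDim
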